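import Mathlib

/-!
# A local criterion: bijectivity modulo all powers of the maximal ideal gives flatness
-/

set_option autoImplicit false
set_option linter.style.haveILetI false

universe u

open IsLocalRing TensorProduct

namespace Groth.Agent.Deform.MonoEndo

variable {R S : Type u} [CommRing R] [CommRing S] [IsLocalRing R] [IsLocalRing S] [Algebra R S]
  [IsNoetherianRing R] [IsNoetherianRing S] [IsLocalHom (algebraMap R S)]

/-- If `R → S` is bijective modulo every power of the maximal ideals then it is flat. -/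
theorem flat_of_forall_pow (hinj : ∀ n : ℕ, ∀ r : R, algebraMap R S r ∈ maximalIdeal S ^ n → r ∈ maximalIdeal R ^ n)
    (hsurj : ∀ n : ℕ, ∀ s : S, ∃ r : R, s - algebraMap R S r ∈ maximalIdeal S ^ n) : Module.Flat R S := by
  -- the maximal ideal of `S` is generated by that of `R`
  let mS : Ideal S := (maximalIdeal R).map (algebraMap R S)
  have hle : mS ≤ maximalIdeal S := Ideal.map_le_iff_le_comap.mpr fun r hr => (mem_nonunits_iff.mpr fun h => hr (IsLocalHom.map_nonunit r h))
  have hmS : mS = maximalIdeal S := by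
    refine le_antisymm hle ?_
    refine Submodule.le_of_le_smul_of_le_jacobson_bot (IsNoetherian.noetherian _)
      (IsLocalRing.maximalIdeal_le_jacobson _) ?_
    intro s hs
    obtain ⟨r, hr⟩ := hsurj 2 s
    have hrm : algebraMap R S r ∈ maximalIdeal S ^ 1 := by
      rw [pow_one]
      have h2 : s - algebraMap R S r ∈ maximalIdeal S := Ideal.pow_le_self two_ne_zero hr
      simpa using Ideal.sub_mem _ hs h2
    have hr1 := hinj 1 r hrm
    rw [pow_one] at hr1
    rw [show s = algebraMap R S r + (s - algebraMap R S r) by ring]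
    refine Submodule.add_mem_sup (Ideal.mem_map_of_mem _ hr1) ?_
    rw [smul_eq_mul, ← pow_two]
    exact hr
  have hpow : ∀ n, maximalIdeal S ^ n = (maximalIdeal R ^ n).map (algebraMap R S) := fun n => by
    rw [Ideal.map_pow, ← hmS]
  rw [Module.Flat.iff_rTensor_injective']
  intro J
  refine (injective_iff_map_eq_zero _).mpr fun t ht => ?_
  haveI : Module.Finite R J := Module.Finite.iff_fg.mpr (IsNoetherian.noetherian J)
  -- work in the `S`-module `S ⊗ J`
  let e : J ⊗[R] S ≃ₗ[R] S ⊗[R] J := TensorProduct.comm R J S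
  suffices h : e t = 0 from e.map_eq_zero_iff.mp h
  have hkrull : (⨅ k : ℕ, maximalIdeal S ^ k • (⊤ : Submodule S (S ⊗[R] J))) = ⊥ :=
    Ideal.iInf_pow_smul_eq_bot_of_isLocalRing _ (IsLocalRing.maximalIdeal.isMaximal S).ne_top
  suffices h : e t ∈ (⨅ k : ℕ, maximalIdeal S ^ k • (⊤ : Submodule S (S ⊗[R] J))) by
    rw [hkrull] at h; exact (Submodule.mem_bot S).mp h
  rw [Submodule.mem_iInf]
  intro k
  obtain ⟨k₀, hk₀⟩ := Ideal.exists_pow_inf_eq_pow_smul (maximalIdeal R) (J : Submodule R R)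
  let n := k + k₀
  have key : ∀ w : S ⊗[R] J, ∃ j : J, w - (1 : S) ⊗ₜ[R] j ∈ maximalIdeal S ^ n • (⊤ : Submodule S (S ⊗[R] J)) := by
    intro w
    induction w with
    | zero => exact ⟨0, by simp⟩
    | tmul s j =>
      obtain ⟨r, hr⟩ := hsurj n s
      refine ⟨r • j, ?_⟩
      rw [← TensorProduct.smul_tmul, ← sub_tmul, Algebra.smul_def, mul_one,
        show (s - algebraMap R S r) ⊗ₜ[R] j = (s - algebraMap R S r) • ((1 : S) ⊗ₜ[R] j) by
          rw [TensorProduct.smul_tmul', smul_eq_mul, mul_one]]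
      exact Submodule.smul_mem_smul hr trivial
    | add a b ha hb =>
      obtain ⟨j, hj⟩ := ha
      obtain ⟨j', hj'⟩ := hb
      refine ⟨j + j', ?_⟩
      rw [tmul_add, add_sub_add_comm]
      exact add_mem hj hj'
  obtain ⟨j, hj⟩ := key (e t)
  let φ : S ⊗[R] J →ₗ[S] S := (AlgebraTensorModule.rid R S S).toLinearMap ∘ₗ LinearMap.baseChange S (J : Submodule R R).subtype
  have hφ : ∀ (s : S) (x : J), φ (s ⊗ₜ[R] x) = (x : R) • s := fun s x => rfl
  have hφt : φ (e t) = 0 := by
    have e1 : ∀ w : J ⊗[R] S, φ (e w) = TensorProduct.lid R S ((J : Submodule R R).subtype.rTensor S w) := by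
      intro w
      induction w with
      | zero => simp
      | tmul x s => rw [TensorProduct.comm_tmul, hφ]; rfl
      | add a b ha hb => rw [map_add, map_add, ha, hb, map_add, map_add]
    rw [e1, ht, map_zero]
  have hjn : algebraMap R S j ∈ maximalIdeal S ^ n := by
    have h1 : φ (e t - (1 : S) ⊗ₜ[R] j) ∈ (maximalIdeal S ^ n • (⊤ : Submodule S (S ⊗[R] J))).map φ :=
      Submodule.mem_map_of_mem hj
    rw [Submodule.map_smul'', map_sub, hφt, zero_sub, hφ,
      show (j : R) • (1 : S) = algebraMap R S j from (Algebra.algebraMap_eq_smul_one _).symm] at h1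
    exact (Ideal.neg_mem_iff _).mp (Ideal.mul_le_left (I := maximalIdeal S ^ n) (by rwa [smul_eq_mul] at h1) |> id)
  have hj2 : (j : R) ∈ maximalIdeal R ^ n • ⊤ ⊓ (J : Submodule R R) := ⟨by simpa using hinj n j hjn, j.2⟩
  rw [hk₀ n (Nat.le_add_left _ _), show n - k₀ = k from Nat.add_sub_cancel k k₀] at hj2
  have h3 : ∀ x ∈ maximalIdeal R ^ k • (maximalIdeal R ^ k₀ • ⊤ ⊓ (J : Submodule R R)), ∃ hx : x ∈ J,
      (1 : S) ⊗ₜ[R] (⟨x, hx⟩ : J) ∈ maximalIdeal S ^ k • (⊤ : Submodule S (S ⊗[R] J)) := by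
    intro x hx
    refine Submodule.smul_induction_on hx (fun r hr y hy => ?_) (fun a b ha hb => ?_)
    ·
      refine ⟨J.smul_mem r hy.2, ?_⟩
      rw [show (⟨r • y, J.smul_mem r hy.2⟩ : J) = r • (⟨y, hy.2⟩ : J) from rfl, tmul_smul, ← algebraMap_smul S r]
      exact Submodule.smul_mem_smul (by rw [hpow]; exact Ideal.mem_map_of_mem _ hr) trivial
    ·
      obtain ⟨ha₁, ha₂⟩ := ha
      obtain ⟨hb₁, hb₂⟩ := hb
      refine ⟨J.add_mem ha₁ hb₁, ?_⟩
      rw [show (⟨a + b, J.add_mem ha₁ hb₁⟩ : J) = (⟨a, ha₁⟩ : J) + ⟨b, hb₁⟩ from rfl, tmul_add]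
      exact add_mem ha₂ hb₂
  obtain ⟨_, hj3⟩ := h3 _ hj2
  rw [← sub_add_cancel (e t) ((1 : S) ⊗ₜ[R] j)]
  exact add_mem (Submodule.smul_mono_left (Ideal.pow_le_pow_right (Nat.le_add_right k k₀)) hj) hj3

end Groth.Agent.Deform.MonoEndo
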